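import Cfsg.Agent.Lib.UnitarySimple
import Cfsg.Agent.Lib.HermCount
import Cfsg.Prelude.Def_LieClassical

/-!
The stabiliser of an isotropic vector in `GU_3(q)`, `q` even, and the centraliser of a transvection in `PGU_3(q)`.
-/

set_option autoImplicit false
set_option linter.unusedSectionVars false
set_option linter.style.haveILetI false

namespace CfsgLib.Bender.PGU3

open Matrix CfsgLib.UnitaryTransvection CfsgLib.UnitarySimple

universe u v

/-- The properties of an involution centraliser of `PGU_3(q)` that the recognition uses. -/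
def CentData (C : Type u) [Group C] (q : ℕ) : Prop :=
  ∃ P : Subgroup C, P.Normal ∧ IsPGroup 2 P ∧ Nat.card P = q ^ 3 ∧
    (∀ g : C, (∃ k : ℕ, g ^ 2 ^ k = 1) → g ∈ P) ∧
    (∀ g ∈ P, g * g * (g * g) = 1) ∧
    (∀ g : C, (∀ x ∈ P, g * x = x * g) → g ∈ P) ∧
    (∀ i g : C, i * i = 1 → i * g = g * i) ∧
    Nat.card {i : C // i ≠ 1 ∧ i * i = 1} = q - 1 ∧
    Nat.card C = q ^ 3 * (q + 1)

theorem CentData.transport {C : Type u} [Group C] {C' : Type v} [Group C'] {q : ℕ} (h : CentData C q)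
    (e : C' ≃* C) : CentData C' q := by
  obtain ⟨P, hn, h2, hc, hmem, h4, hcen, hinv, hcount, hcard⟩ := h
  haveI := hn
  refine ⟨P.comap e.toMonoidHom, inferInstance, h2.comap_of_injective _ e.injective, ?_, ?_, ?_, ?_, ?_, ?_, ?_⟩
  · rw [← hc]
    exact Nat.card_congr ((e.toEquiv.subtypeEquiv fun x => Iff.rfl))
  · rintro g ⟨k, hk⟩
    exact hmem (e g) ⟨k, by rw [← map_pow, hk, map_one]⟩
  · intro g hg
    refine e.injective ?_
    rw [map_mul, map_mul, map_one]
    exact h4 (e g) hg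
  · intro g hg
    refine hcen (e g) fun x hx => ?_
    have h1 := hg (e.symm x) (Subgroup.mem_comap.mpr (by simpa using hx))
    simpa using congrArg e h1
  · intro i g hi
    refine e.injective ?_
    rw [map_mul, map_mul]
    exact hinv _ _ (by rw [← map_mul, hi, map_one])
  · rw [← hcount]
    exact Nat.card_congr (e.toEquiv.subtypeEquiv fun x => by
      simp only [MulEquiv.toEquiv_eq_coe, MulEquiv.coe_toEquiv, ← map_mul, MulEquiv.map_eq_one_iff, ne_eq])
  · rw [← hcard]
    exact Nat.card_congr e.toEquiv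

variable {F : Type u} [Field F] [Fintype F] {q : ℕ} (hF : Fintype.card F = q ^ 2)

local notation "h" => Cfsg.hermForm 3 F q
local notation "σ" => frob hF

/-- An isotropic pair and a unit vector orthogonal to it. -/
structure Frame (hF : Fintype.card F = q ^ 2) (v u w : Fin 3 → F) : Prop where
  vv : Cfsg.hermForm 3 F q v v = 0
  ww : Cfsg.hermForm 3 F q w w = 0
  uu : Cfsg.hermForm 3 F q u u = 1
  vw : Cfsg.hermForm 3 F q v w = 1
  wv : Cfsg.hermForm 3 F q w v = 1
  uv : Cfsg.hermForm 3 F q u v = 0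
  vu : Cfsg.hermForm 3 F q v u = 0
  uw : Cfsg.hermForm 3 F q u w = 0
  wu : Cfsg.hermForm 3 F q w u = 0

include hF in
theorem exists_frame : ∃ v u w : Fin 3 → F, Frame hF v u w := by
  obtain ⟨v, hv0, hv⟩ := exists_isotropic (n := 3) hF (by norm_num)
  obtain ⟨y, hvy, hyv⟩ := exists_partner hF hv0
  obtain ⟨d, hd⟩ := exists_trace_one hF
  set w := y - (d * h y y) • v with hw
  have hvw : h v w = 1 := by rw [hw, h_sub_right hF, h_smul_right hF, hvy, hv, mul_zero, sub_zero]
  have hwv : h w v = 1 := by rw [← h_swap hF v w, hvw, map_one]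
  have hww : h w w = 0 := by
    rw [hw, h_sub_left, h_sub_right hF, h_sub_right hF, h_smul_left, h_smul_left, h_smul_right hF,
      h_smul_right hF, hv, hvy, hyv, map_mul, h_swap hF y y]
    linear_combination -(h y y) * hd
  obtain ⟨u, hu, huu⟩ := unit_perp hF ![v, w] ![w, v]
    (fun i => by fin_cases i <;> exact Submodule.subset_span (by simp))
    (fun i j => by fin_cases i <;> fin_cases j <;> simp [hv, hww, hvw, hwv]) (by norm_num)
  have huv : h u v = 0 := hu 0
  have huw : h u w = 0 := hu 1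
  exact ⟨v, u, w, hv, hww, huu, hvw, hwv, huv, by rw [← h_swap hF u v, huv, map_zero], huw,
    by rw [← h_swap hF u w, huw, map_zero]⟩

variable {v u w : Fin 3 → F} (hf : Frame hF v u w)
include hf

theorem expand (x : Fin 3 → F) : x = h x w • v + h x u • u + h x v • w := by
  let Φ : F × F × F → (Fin 3 → F) := fun t => t.1 • v + t.2.1 • u + t.2.2 • w
  have hΦ : Function.Bijective Φ := by
    rw [Fintype.bijective_iff_injective_and_card]
    refine ⟨fun s t e => ?_, by simp [pow_succ, mul_assoc]⟩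
    have e1 := congrArg (fun z => h z w) e
    have e2 := congrArg (fun z => h z u) e
    have e3 := congrArg (fun z => h z v) e
    simp [Φ, h_add_left, h_smul_left, hf.vw, hf.uw, hf.ww] at e1
    simp [Φ, h_add_left, h_smul_left, hf.vu, hf.uu, hf.wu] at e2
    simp [Φ, h_add_left, h_smul_left, hf.vv, hf.uv, hf.wv] at e3
    exact Prod.ext e1 (Prod.ext e2 e3)
  obtain ⟨⟨a, b, c⟩, rfl⟩ := hΦ.2 x
  simp [Φ, h_add_left, h_smul_left, hf.vw, hf.uw, hf.ww, hf.vu, hf.uu, hf.wu, hf.vv, hf.uv, hf.wv]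

theorem v_ne : v ≠ 0 := fun e => by
  have := hf.vw
  rw [e] at this
  simp [Cfsg.hermForm] at this

omit hf in
/-- The stabiliser of a vector. -/
def K (v : Fin 3 → F) : Subgroup (Cfsg.GU 3 F q) where
  carrier := {g | g.1.1 *ᵥ v = v}
  one_mem' := one_mulVec v
  mul_mem' := fun {g g'} hg hg' => by
    show (g.1.1 * g'.1.1) *ᵥ v = v
    rw [← mulVec_mulVec, hg', hg]
  inv_mem' := fun {g} hg => by
    show (g⁻¹).1.1 *ᵥ v = v
    conv_lhs => rw [← hg]
    rw [mulVec_mulVec, show (g⁻¹).1.1 * g.1.1 = 1 from congrArg Units.val (inv_mul_cancel g.1), one_mulVec]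

theorem K_v (g : K (q := q) v) : g.1.1.1 *ᵥ v = v := g.2

theorem K_hv (g : K (q := q) v) (x : Fin 3 → F) : h (g.1.1.1 *ᵥ x) v = h x v := by
  conv_lhs => arg 5; rw [← K_v hF hf g]
  exact gu_h g.1 x v

theorem K_u (g : K (q := q) v) :
    g.1.1.1 *ᵥ u = h (g.1.1.1 *ᵥ u) w • v + h (g.1.1.1 *ᵥ u) u • u := by
  conv_lhs => rw [expand hF hf (g.1.1.1 *ᵥ u)]
  rw [K_hv hF hf g, hf.uv, zero_smul, add_zero]

theorem K_w (g : K (q := q) v) :
    g.1.1.1 *ᵥ w = h (g.1.1.1 *ᵥ w) w • v + h (g.1.1.1 *ᵥ w) u • u + w := by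
  conv_lhs => rw [expand hF hf (g.1.1.1 *ᵥ w)]
  rw [K_hv hF hf g, hf.wv, one_smul]

theorem K_ext {g g' : K (q := q) v} (h1 : g.1.1.1 *ᵥ u = g'.1.1.1 *ᵥ u)
    (h2 : g.1.1.1 *ᵥ w = g'.1.1.1 *ᵥ w) : g = g' := by
  refine Subtype.ext (gu_ext fun x => ?_)
  rw [expand hF hf x]
  simp only [mulVec_add, mulVec_smul, K_v hF hf g, K_v hF hf g', h1, h2]

/-- The diagonal entry of an element of the stabiliser at the unit vector. -/
noncomputable def beta : K (q := q) v →* F where
  toFun g := h (g.1.1.1 *ᵥ u) u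
  map_one' := by
    show h ((1 : Matrix (Fin 3) (Fin 3) F) *ᵥ u) u = 1
    rw [one_mulVec, hf.uu]
  map_mul' g g' := by
    show h ((g.1.1.1 * g'.1.1.1) *ᵥ u) u = _
    rw [← mulVec_mulVec]
    conv_lhs => rw [K_u hF hf g']
    rw [mulVec_add, mulVec_smul, mulVec_smul, K_v hF hf g, h_add_left, h_smul_left, h_smul_left, hf.vu]
    ring

theorem K_u_one {g : K (q := q) v} (hg : beta hF hf g = 1) :
    g.1.1.1 *ᵥ u = -σ (h (g.1.1.1 *ᵥ w) u) • v + u := by
  have h1 : h (g.1.1.1 *ᵥ u) u = 1 := hg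
  have h2 := gu_h g.1 u w
  rw [K_u hF hf g, K_w hF hf g, hf.uw, h1, one_smul] at h2
  simp [h_add_left, h_add_right hF, h_smul_left, h_smul_right hF, hf.vv, hf.vu, hf.vw, hf.uv, hf.uu, hf.uw] at h2
  conv_lhs => rw [K_u hF hf g, h1, one_smul]
  rw [eq_neg_of_add_eq_zero_right h2]

theorem cond {d s : F} (hds : d * σ d + s + σ s = 0) : h (d • u) (d • u) + s + σ s = 0 := by
  rwa [h_smul_left, h_smul_right hF, hf.uu, mul_one]

theorem duv (d : F) : h (d • u) v = 0 := by rw [h_smul_left, hf.uv, mul_zero]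

/-- The unipotent element with parameters `d` and `s`. -/
noncomputable def root (d s : F) (hds : d * σ d + s + σ s = 0) : K (q := q) v :=
  ⟨mkGU hF (umat (q := q) v (d • u) s) (umat_isometry hF hf.vv (duv hF hf d) (cond hF hf hds)), by
    show umat (q := q) v (d • u) s *ᵥ v = v
    rw [umat_mulVec, hf.vv, h_smul_right hF, hf.vu]
    simp⟩

theorem root_mulVec (d s : F) (hds : d * σ d + s + σ s = 0) (x : Fin 3 → F) :
    (root hF hf d s hds).1.1.1 *ᵥ x = x + (h x v * d) • u - (σ d * h x u) • v + (s * h x v) • v := by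
  show umat (q := q) v (d • u) s *ᵥ x = _
  rw [umat_mulVec, h_smul_right hF, smul_smul]

theorem root_u (d s : F) (hds : d * σ d + s + σ s = 0) :
    (root hF hf d s hds).1.1.1 *ᵥ u = -σ d • v + u := by
  rw [root_mulVec, hf.uv, hf.uu]
  module

theorem root_w (d s : F) (hds : d * σ d + s + σ s = 0) :
    (root hF hf d s hds).1.1.1 *ᵥ w = s • v + d • u + w := by
  rw [root_mulVec, hf.wv, hf.wu]
  module

theorem beta_root (d s : F) (hds : d * σ d + s + σ s = 0) : beta hF hf (root hF hf d s hds) = 1 := by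
  show h _ u = 1
  rw [root_u, h_add_left, h_smul_left, hf.vu, hf.uu, mul_zero, zero_add]

theorem eq_root {g : K (q := q) v} (hg : beta hF hf g = 1) :
    ∃ (d s : F) (hds : d * σ d + s + σ s = 0), g = root hF hf d s hds := by
  set d := h (g.1.1.1 *ᵥ w) u
  set s := h (g.1.1.1 *ᵥ w) w
  have hgw : g.1.1.1 *ᵥ w = s • v + d • u + w := K_w hF hf g
  have hds : d * σ d + s + σ s = 0 := by
    have h2 := gu_h g.1 w w
    rw [hgw, hf.ww] at h2
    simp [h_add_left, h_add_right hF, h_smul_left, h_smul_right hF, hf.vv, hf.vu, hf.vw, hf.uv, hf.uu, hf.uw,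
      hf.wv, hf.wu, hf.ww] at h2
    linear_combination h2
  refine ⟨d, s, hds, K_ext hF hf ?_ ?_⟩
  · rw [root_u, K_u_one hF hf hg]
  · rw [root_w, hgw]

variable [CharP F 2]

omit hf in
theorem two_power_eq_one {x : F} {k : ℕ} (hx : x ^ 2 ^ k = 1) : x = 1 :=
  iterateFrobenius_inj F 2 k (by simp [iterateFrobenius_def, hx])

omit hf in
theorem card_fixed : Nat.card {x : F // σ x = x} = q ∧ ∀ c : F, σ c = c → Nat.card {s : F // s + σ s = c} = q := by
  classical
  have hq := (UnitaryBasic.frob_exists hF).1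
  let T : F →+ F :=
    { toFun := fun x => x + σ x
      map_zero' := by simp
      map_add' := fun x y => by simp [map_add]; ring }
  have hker : ∀ x, x ∈ T.ker ↔ σ x = x := fun x => by
    rw [AddMonoidHom.mem_ker]
    show x + σ x = 0 ↔ _
    rw [CharTwo.add_eq_zero, eq_comm]
  have hk : Nat.card T.ker ≤ q := by
    have hne : (Polynomial.X ^ q - Polynomial.X : Polynomial F) ≠ 0 := FiniteField.X_pow_card_sub_X_ne_zero F hq
    haveI := Fintype.ofFinite T.ker
    rw [Nat.card_eq_fintype_card]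
    calc Fintype.card T.ker
        = (Finset.univ.filter fun x : F => x ∈ T.ker).card := Fintype.card_subtype _
      _ ≤ (Polynomial.X ^ q - Polynomial.X : Polynomial F).natDegree := by
          refine Polynomial.card_le_degree_of_subset_roots fun x hx => ?_
          have hx' : x ∈ T.ker := (Finset.mem_filter.mp hx).2
          rw [Polynomial.mem_roots hne, Polynomial.IsRoot]
          simp [← frob_apply hF, (hker x).mp hx']
      _ = q := FiniteField.X_pow_card_sub_X_natDegree_eq F hq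
  have hrange : T.range ≤ T.ker := by
    rintro _ ⟨x, rfl⟩
    rw [hker]
    show σ (x + σ x) = x + σ x
    rw [map_add, frob_frob hF, add_comm]
  have hmul : Nat.card T.range * Nat.card T.ker = q * q := by
    rw [← Nat.card_congr (QuotientAddGroup.quotientKerEquivRange T).toEquiv,
      ← AddSubgroup.card_eq_card_quotient_mul_card_addSubgroup, Nat.card_eq_fintype_card, hF, sq]
  have hle := AddSubgroup.card_le_of_le hrange
  have hcard : Nat.card T.ker = q := by nlinarith
  have hsur : T.range = T.ker := AddSubgroup.eq_of_le_of_card_ge hrange (by nlinarith)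
  refine ⟨(Nat.card_congr (Equiv.subtypeEquivRight hker)).symm.trans hcard, fun c hc => ?_⟩
  obtain ⟨s0, hs0⟩ : c ∈ T.range := hsur ▸ (hker c).mpr hc
  refine Eq.trans (Nat.card_congr ?_) hcard
  exact
    { toFun := fun s => ⟨s.1 - s0, by
        rw [AddMonoidHom.mem_ker, map_sub, hs0, sub_eq_zero]; exact s.2⟩
      invFun := fun x => ⟨x.1 + s0, by
        show T (x.1 + s0) = c
        rw [map_add, AddMonoidHom.mem_ker.mp x.2, zero_add, hs0]⟩
      left_inv := fun s => Subtype.ext (by simp)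
      right_inv := fun x => Subtype.ext (by simp) }

/-- The unipotent radical. -/
noncomputable def P0 : Subgroup (K (q := q) v) := (beta hF hf).ker

theorem card_P0 : Nat.card (P0 hF hf) = q ^ 3 := by
  classical
  obtain ⟨-, hfib⟩ := card_fixed hF
  have hc : ∀ d : F, σ (d * σ d) = d * σ d := fun d => by rw [map_mul, frob_frob hF, mul_comm]
  have hcond : ∀ d s : F, d * σ d + s + σ s = 0 ↔ s + σ s = d * σ d := fun d s => by
    rw [add_assoc, CharTwo.add_eq_zero, eq_comm]
  let f : (Σ d : F, {s : F // s + σ s = d * σ d}) → P0 hF hf := fun p =>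
    ⟨root hF hf p.1 p.2.1 ((hcond _ _).mpr p.2.2), MonoidHom.mem_ker.mpr (beta_root hF hf _ _ _)⟩
  have hf' : Function.Bijective f := by
    refine ⟨?_, fun g => ?_⟩
    · rintro ⟨d, s, hs⟩ ⟨d', s', hs'⟩ e
      have e1 := congrArg (fun g : P0 hF hf => h (g.1.1.1.1 *ᵥ w) u) e
      have e2 := congrArg (fun g : P0 hF hf => h (g.1.1.1.1 *ᵥ w) w) e
      simp [f, root_w, h_add_left, h_smul_left, hf.vu, hf.uu, hf.wu] at e1
      simp [f, root_w, h_add_left, h_smul_left, hf.vw, hf.uw, hf.ww] at e2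
      subst e1
      subst e2
      rfl
    · obtain ⟨d, s, hds, e⟩ := eq_root hF hf (MonoidHom.mem_ker.mp g.2)
      exact ⟨⟨d, s, (hcond d s).mp hds⟩, Subtype.ext e.symm⟩
  rw [← Nat.card_congr (Equiv.ofBijective f hf'), Nat.card_sigma,
    Finset.sum_congr rfl fun d _ => hfib _ (hc d), Finset.sum_const, Finset.card_univ, smul_eq_mul, hF]
  ring

theorem card_K : Nat.card (K (q := q) v) = q ^ 3 * (q + 1) := by
  classical
  let b : K (q := q) v →* Fˣ := (beta hF hf).toHomUnits
  have hb : ∀ g, (b g : F) = beta hF hf g := fun g => rfl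
  have hker : b.ker = P0 hF hf := by
    ext g
    rw [P0, MonoidHom.mem_ker, MonoidHom.mem_ker, ← Units.val_inj, hb, Units.val_one]
  have hr : Nat.card b.range = q + 1 := by
    rw [← HermCount.card_fibre hF one_ne_zero (one_pow q)]
    refine Nat.card_eq_of_bijective (fun x => ⟨(x.1 : F), ?_⟩) ⟨fun x y e => ?_, fun x => ?_⟩
    · obtain ⟨_, g, rfl⟩ := x
      have h2 := gu_h g.1 u u
      rw [K_u hF hf g, hf.uu] at h2
      simp [h_add_left, h_add_right hF, h_smul_left, h_smul_right hF, hf.vv, hf.vu, hf.uv, hf.uu] at h2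
      rw [hb, pow_succ', ← frob_apply hF]
      rw [mul_comm] at h2
      exact h2
    · exact Subtype.ext (Units.ext (congrArg Subtype.val e :))
    · obtain ⟨x, hx⟩ := x
      have hx' : x * σ x = 1 := by rw [frob_apply, ← pow_succ']; exact hx
      obtain ⟨hg, hgu⟩ := scale_move hF hf.uu hx'
      let g : K (q := q) v := ⟨tg hF u (x - 1) hg, by
        show _ *ᵥ v = v
        rw [tg_mulVec, hf.vu, mul_zero, zero_smul, add_zero]⟩
      have hgx : beta hF hf g = x := by
        show h ((tg hF u (x - 1) hg).1.1 *ᵥ u) u = x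
        rw [hgu, h_smul_left, hf.uu, mul_one]
      exact ⟨⟨b g, g, rfl⟩, Subtype.ext hgx⟩
  rw [b.ker.card_eq_card_quotient_mul_card_subgroup, Nat.card_congr (QuotientGroup.quotientKerEquivRange b).toEquiv,
    hr, hker, card_P0 hF hf, mul_comm]

theorem root_mul (d s d' s' : F) (h1 : d * σ d + s + σ s = 0) (h2 : d' * σ d' + s' + σ s' = 0) :
    (root hF hf d s h1).1.1.1 * (root hF hf d' s' h2).1.1.1 =
      umat (q := q) v (d • u + d' • u) (s + s' - h (d' • u) (d • u)) :=
  umat_mul hF hf.vv (duv hF hf d) (duv hF hf d')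

theorem sq_eq {g : K (q := q) v} (hg : beta hF hf g = 1) :
    ∃ (c : F) (hc : (0 : F) * σ 0 + c + σ c = 0), g * g = root hF hf 0 c hc ∧
      ∀ hw : (g * g).1.1.1 *ᵥ w = w, g.1.1.1 *ᵥ w = h (g.1.1.1 *ᵥ w) w • v + w := by
  obtain ⟨d, s, hds, rfl⟩ := eq_root hF hf hg
  have hc : (0 : F) * σ 0 + d * σ d + σ (d * σ d) = 0 := by
    rw [map_mul, frob_frob hF, mul_comm (σ d), zero_mul, zero_add, CharTwo.add_self_eq_zero]
  have e : root hF hf d s hds * root hF hf d s hds = root hF hf 0 (d * σ d) hc := by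
    refine Subtype.ext (Subtype.ext (Units.ext ?_))
    show _ * _ = umat (q := q) v ((0 : F) • u) (d * σ d)
    rw [root_mul, ← add_smul, CharTwo.add_self_eq_zero, CharTwo.add_self_eq_zero, zero_sub, h_smul_left,
      h_smul_right hF, hf.uu, mul_one, CharTwo.neg_eq]
  refine ⟨_, hc, e, fun hw => ?_⟩
  rw [e, root_w] at hw
  have h3 := congrArg (fun z => h z w) hw
  simp [h_add_left, h_smul_left, hf.vw, hf.uw, hf.ww] at h3
  subst h3
  rw [root_w]
  simp [h_add_left, h_smul_left, hf.vw, hf.ww]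

theorem root_zero_central (s : F) (hs : (0 : F) * σ 0 + s + σ s = 0) (g : K (q := q) v) :
    root hF hf 0 s hs * g = g * root hF hf 0 s hs := by
  refine Subtype.ext (gu_ext fun x => ?_)
  show ((root hF hf 0 s hs).1.1.1 * g.1.1.1) *ᵥ x = (g.1.1.1 * (root hF hf 0 s hs).1.1.1) *ᵥ x
  rw [← mulVec_mulVec, ← mulVec_mulVec, root_mulVec, root_mulVec, K_hv hF hf g]
  simp only [map_zero, zero_mul, mul_zero, zero_smul, add_zero, sub_zero, mulVec_add, mulVec_smul,
    K_v hF hf g]

theorem invol_root {i : K (q := q) v} (hi : i * i = 1) :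
    ∃ (s : F) (hs : (0 : F) * σ 0 + s + σ s = 0), i = root hF hf 0 s hs := by
  have hb : beta hF hf i = 1 := two_power_eq_one (k := 1) (by rw [pow_one, pow_two, ← map_mul, hi, map_one])
  obtain ⟨-, -, -, hkey⟩ := sq_eq hF hf hb
  have hw := hkey (by rw [hi]; exact one_mulVec w)
  obtain ⟨d, s, hds, rfl⟩ := eq_root hF hf hb
  have h3 := congrArg (fun z => h z u) hw
  simp [root_w, h_add_left, h_smul_left, hf.vu, hf.uu, hf.wu] at h3
  subst h3
  exact ⟨s, hds, rfl⟩

theorem centData_K : CentData (K (q := q) v) q := by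
  classical
  obtain ⟨hfix, hfib⟩ := card_fixed hF
  have h4 : ∀ g ∈ P0 hF hf, g * g * (g * g) = 1 := fun g hg => by
    obtain ⟨c, hc, e, -⟩ := sq_eq hF hf (MonoidHom.mem_ker.mp hg)
    rw [e]
    refine Subtype.ext (Subtype.ext (Units.ext ?_))
    show _ * _ = (1 : Matrix (Fin 3) (Fin 3) F)
    rw [root_mul]
    simp [CharTwo.add_self_eq_zero, Cfsg.hermForm, umat_zero hF]
  have h2 : IsPGroup 2 (P0 hF hf) := fun g => ⟨2, Subtype.ext (by
    show (g : K (q := q) v) ^ 2 ^ 2 = 1
    rw [show (2 : ℕ) ^ 2 = 2 * 2 by norm_num, pow_mul, pow_two, pow_two]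
    exact h4 g g.2)⟩
  refine ⟨P0 hF hf, by unfold P0; infer_instance, h2, card_P0 hF hf, ?_, h4, ?_, ?_, ?_, card_K hF hf⟩
  · rintro g ⟨k, hk⟩
    exact MonoidHom.mem_ker.mpr (two_power_eq_one (by rw [← map_pow, hk, map_one]))
  · intro g hg
    obtain ⟨s0, hs0⟩ : ∃ s0 : F, s0 + σ s0 = 1 :=
      let ⟨s, hs⟩ := exists_trace_one hF; ⟨s, by rw [add_comm]; exact hs⟩
    have hds : (1 : F) * σ 1 + s0 + σ s0 = 0 := by
      rw [map_one, mul_one, add_assoc, hs0, CharTwo.add_self_eq_zero]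
    have he : g * root hF hf 1 s0 hds = root hF hf 1 s0 hds * g :=
      hg _ (MonoidHom.mem_ker.mpr (beta_root hF hf _ _ _))
    have hw : g.1.1.1 *ᵥ ((root hF hf 1 s0 hds).1.1.1 *ᵥ w) =
        (root hF hf 1 s0 hds).1.1.1 *ᵥ (g.1.1.1 *ᵥ w) := by
      rw [mulVec_mulVec, mulVec_mulVec]
      exact congrArg (fun z : K (q := q) v => z.1.1.1 *ᵥ w) he
    have h3 := congrArg (fun z => h z u) hw
    rw [root_w, root_mulVec, mulVec_add, mulVec_add, mulVec_smul, one_smul, K_v hF hf g] at h3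
    simp [h_add_left, h_sub_left, h_smul_left, hf.vu, hf.uu, K_hv hF hf g, hf.wv] at h3
    refine MonoidHom.mem_ker.mpr ?_
    show h (g.1.1.1 *ᵥ u) u = 1
    linear_combination h3
  · intro i g hi
    obtain ⟨s, hs, rfl⟩ := invol_root hF hf hi
    exact root_zero_central hF hf s hs g
  · have hs : ∀ s : F, (0 : F) * σ 0 + s + σ s = 0 ↔ σ s = s := fun s => by
      rw [zero_mul, zero_add, CharTwo.add_eq_zero, eq_comm]
    haveI := Fintype.ofFinite {x : F // σ x = x}
    have hcard : Nat.card {x : {x : F // σ x = x} // x.1 ≠ 0} = q - 1 := by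
      rw [Nat.card_congr (Equiv.subtypeEquivRight (p := fun x : {x : F // σ x = x} => x.1 ≠ 0)
        (q := fun x => x ≠ ⟨0, map_zero _⟩) fun x => by rw [Ne, Ne, Subtype.ext_iff]), Nat.card_eq_fintype_card]
      rw [Fintype.card_subtype_compl, Fintype.card_subtype_eq, ← Nat.card_eq_fintype_card, hfix]
    rw [← hcard]
    refine (Nat.card_eq_of_bijective (fun x : {x : {x : F // σ x = x} // x.1 ≠ 0} =>
      (⟨root hF hf 0 x.1.1 ((hs _).mpr x.1.2), fun e => x.2 ?_, ?_⟩ : {i : K (q := q) v // i ≠ 1 ∧ i * i = 1}))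
      ⟨fun x y e => ?_, fun i => ?_⟩).symm
    · have h3 := congrArg (fun g : K (q := q) v => h (g.1.1.1 *ᵥ w) w) e
      have h1 : (1 : K (q := q) v).1.1.1 = (1 : Matrix (Fin 3) (Fin 3) F) := rfl
      simp [root_w, h_add_left, h_smul_left, hf.vw, hf.ww, h1] at h3
      exact h3
    · refine Subtype.ext (Subtype.ext (Units.ext ?_))
      show _ * _ = (1 : Matrix (Fin 3) (Fin 3) F)
      rw [root_mul]
      simp [CharTwo.add_self_eq_zero, Cfsg.hermForm, umat_zero hF]
    · have h3 := congrArg (fun g : {i : K (q := q) v // i ≠ 1 ∧ i * i = 1} => h (g.1.1.1.1 *ᵥ w) w) e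
      simp [root_w, h_add_left, h_smul_left, hf.vw, hf.ww] at h3
      exact Subtype.ext (Subtype.ext h3)
    · obtain ⟨i, hi1, hi2⟩ := i
      obtain ⟨s, hs', rfl⟩ := invol_root hF hf hi2
      refine ⟨⟨⟨s, (hs s).mp hs'⟩, fun e => hi1 (K_ext hF hf ?_ ?_)⟩, rfl⟩
      · show _ = (1 : Matrix (Fin 3) (Fin 3) F) *ᵥ u
        rw [root_u, one_mulVec, map_zero, neg_zero, zero_smul, zero_add]
      · show _ = (1 : Matrix (Fin 3) (Fin 3) F) *ᵥ w
        rw [root_w, one_mulVec]
        simp [show s = 0 from e]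

omit hf in
/-- The scalar element of `GU`. -/
noncomputable def sc (l : F) (hl : l * σ l = 1) : Cfsg.GU 3 F q :=
  mkGU hF (l • 1) fun x y => by
    rw [smul_mulVec, smul_mulVec, one_mulVec, one_mulVec, h_smul_left, h_smul_right hF, ← mul_assoc, hl, one_mul]

omit hf in
theorem sc_mulVec (l : F) (hl : l * σ l = 1) (x : Fin 3 → F) : (sc hF l hl).1.1 *ᵥ x = l • x := by
  show (l • (1 : Matrix (Fin 3) (Fin 3) F)) *ᵥ x = l • x
  rw [smul_mulVec, one_mulVec]

omit hf in
theorem sc_central (l : F) (hl : l * σ l = 1) : sc hF l hl ∈ Subgroup.center (Cfsg.GU 3 F q) := by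
  refine Subgroup.mem_center_iff.mpr fun g => gu_ext fun x => ?_
  show (g.1.1 * (sc hF l hl).1.1) *ᵥ x = ((sc hF l hl).1.1 * g.1.1) *ᵥ x
  rw [← mulVec_mulVec, ← mulVec_mulVec, sc_mulVec, sc_mulVec, mulVec_smul]

omit hf in
include hF in
theorem card_center_ge : q + 1 ≤ Nat.card (Subgroup.center (Cfsg.GU 3 F q)) := by
  rw [← HermCount.card_fibre hF one_ne_zero (one_pow q)]
  have hx : ∀ x : {x : F // x ^ (q + 1) = 1}, x.1 * σ x.1 = 1 := fun x => by
    rw [frob_apply, ← pow_succ']; exact x.2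
  refine Nat.card_le_card_of_injective (fun x => (⟨sc hF x.1 (hx x), sc_central hF _ _⟩ :
    Subgroup.center (Cfsg.GU 3 F q))) fun x y e => ?_
  have h1 : (x.1 • (1 : Matrix (Fin 3) (Fin 3) F)) = y.1 • (1 : Matrix (Fin 3) (Fin 3) F) :=
    congrArg (fun g : Subgroup.center (Cfsg.GU 3 F q) => g.1.1.1) e
  exact Subtype.ext (by simpa using congrFun (congrFun h1 0) 0)

/-- An involution of `PGU_3(q)` with the centraliser data. -/
theorem exists_centData :
    ∃ y : Cfsg.GU 3 F q ⧸ Subgroup.center (Cfsg.GU 3 F q), orderOf y = 2 ∧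
      CentData (Subgroup.centralizer ({y} : Set (Cfsg.GU 3 F q ⧸ Subgroup.center (Cfsg.GU 3 F q)))) q := by
  have h1 : (0 : F) * σ 0 + 1 + σ 1 = 0 := by rw [zero_mul, zero_add, map_one, CharTwo.add_self_eq_zero]
  set τ := root hF hf 0 1 h1 with hτ
  let π := QuotientGroup.mk' (Subgroup.center (Cfsg.GU 3 F q))
  have hscal : ∀ z ∈ Subgroup.center (Cfsg.GU 3 F q), ∃ r : F, ∀ x, z.1.1 *ᵥ x = r • x := fun z hz => by
    obtain ⟨r, hr⟩ := UnitaryBasic.center_GU_scalar hF (by norm_num) hz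
    refine ⟨r, fun x => ?_⟩
    rw [hr]
    ext i
    simp [Matrix.scalar_apply, Matrix.mulVec_diagonal]
  have hτv : ∀ x, τ.1.1.1 *ᵥ x = x + h x v • v := fun x => by
    rw [hτ, root_mulVec]
    simp
  have hτ2 : τ * τ = 1 := by
    refine Subtype.ext (Subtype.ext (Units.ext ?_))
    show _ * _ = (1 : Matrix (Fin 3) (Fin 3) F)
    rw [root_mul]
    simp [CharTwo.add_self_eq_zero, Cfsg.hermForm, umat_zero hF]
  have hy : orderOf (π τ.1) = 2 := by
    refine orderOf_eq_prime (by rw [pow_two, ← map_mul, ← Subgroup.coe_mul, hτ2, Subgroup.coe_one, map_one]) ?_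
    intro e
    obtain ⟨r, hr⟩ := hscal _ ((QuotientGroup.eq_one_iff _).mp e)
    have h3 := congrArg (fun z => h z w) ((hτv w).symm.trans (hr w))
    simp [h_add_left, h_smul_left, hf.vw, hf.ww, hf.wv] at h3
  refine ⟨π τ.1, hy, ?_⟩
  have hmem : ∀ g : K (q := q) v, π g.1 ∈ Subgroup.centralizer ({π τ.1} : Set _) := fun g =>
    Subgroup.mem_centralizer_singleton_iff.mpr (by
      rw [← map_mul, ← map_mul, ← Subgroup.coe_mul, ← Subgroup.coe_mul, hτ, root_zero_central])
  let φ : K (q := q) v →* Subgroup.centralizer ({π τ.1} : Set _) :=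
    (π.comp (K (q := q) v).subtype).codRestrict _ hmem
  refine (centData_K hF hf).transport (MulEquiv.ofBijective φ ⟨?_, ?_⟩).symm
  · rw [injective_iff_map_eq_one]
    intro g hg
    obtain ⟨r, hr⟩ := hscal g.1 ((QuotientGroup.eq_one_iff _).mp (congrArg Subtype.val hg))
    have hv := K_v hF hf g
    rw [hr] at hv
    have hr1 : r = 1 := by
      have h3 := congrArg (fun z => h z w) hv
      simpa [h_smul_left, hf.vw] using h3
    refine Subtype.ext (gu_ext fun x => ?_)
    rw [hr, hr1, one_smul]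
    exact (one_mulVec x).symm
  · rintro ⟨z, hz⟩
    obtain ⟨g, rfl⟩ := QuotientGroup.mk'_surjective _ z
    have hc : π (g * τ.1) = π (τ.1 * g) := by
      rw [map_mul, map_mul]
      exact Subgroup.mem_centralizer_singleton_iff.mp hz
    obtain ⟨r, hr⟩ := hscal _ (QuotientGroup.eq.mp hc.symm)
    have key : ∀ x, g.1.1 *ᵥ x + h x v • (g.1.1 *ᵥ v) = r • (g.1.1 *ᵥ x + h (g.1.1 *ᵥ x) v • v) := by
      intro x
      have e1 : (g * τ.1).1.1 *ᵥ x = g.1.1 *ᵥ x + h x v • (g.1.1 *ᵥ v) := by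
        show (g.1.1 * τ.1.1.1) *ᵥ x = _
        rw [← mulVec_mulVec, hτv, mulVec_add, mulVec_smul]
      have e2 : (τ.1 * g).1.1 *ᵥ x = g.1.1 *ᵥ x + h (g.1.1 *ᵥ x) v • v := by
        show (τ.1.1.1 * g.1.1) *ᵥ x = _
        rw [← mulVec_mulVec, hτv]
      rw [← e1, ← e2, show g * τ.1 = (τ.1 * g) * ((τ.1 * g)⁻¹ * (g * τ.1)) by group]
      show ((τ.1 * g).1.1 * _) *ᵥ x = _
      rw [← mulVec_mulVec, hr, mulVec_smul]
    have hgv0 : g.1.1 *ᵥ v ≠ 0 := fun e => by
      have h3 := gu_h g v w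
      rw [e, hf.vw] at h3
      simp [Cfsg.hermForm] at h3
    have kv := key v
    rw [hf.vv, zero_smul, add_zero] at kv
    have hr1 : r = 1 := by
      by_contra hne
      set μ := h (g.1.1 *ᵥ v) v with hμ
      have h5 : (1 - r) * μ = 0 := by
        have h6 := congrArg (fun z => h z v) kv
        simp [h_add_left, h_smul_left, hf.vv, ← hμ] at h6
        linear_combination h6
      rcases mul_eq_zero.mp h5 with e | e
      · exact hne (sub_eq_zero.mp e).symm
      · rw [e, zero_smul, add_zero] at kv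
        exact hne (smul_left_injective F hgv0 (kv.symm.trans (one_smul F _).symm))
    have kw := key w
    rw [hr1, one_smul, hf.wv, one_smul, add_right_inj] at kw
    set l := h (g.1.1 *ᵥ w) v with hldef
    have hl : σ l * l = 1 := by
      have h7 := gu_h g w v
      rw [hf.wv, kw, h_smul_right hF, ← hldef] at h7
      exact h7
    have hl0 : l ≠ 0 := fun e => by simp [e] at hl
    have hli : l⁻¹ * σ l⁻¹ = 1 := by
      rw [map_inv₀, ← mul_inv, mul_comm, hl, inv_one]
    refine ⟨⟨sc hF l⁻¹ hli * g, ?_⟩, Subtype.ext ?_⟩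
    · show ((sc hF l⁻¹ hli).1.1 * g.1.1) *ᵥ v = v
      rw [← mulVec_mulVec, sc_mulVec, kw, smul_smul, inv_mul_cancel₀ hl0, one_smul]
    · show π (sc hF l⁻¹ hli * g) = π g
      rw [map_mul, show π (sc hF l⁻¹ hli) = 1 from (QuotientGroup.eq_one_iff _).mpr (sc_central hF _ _), one_mul]

end CfsgLib.Bender.PGU3
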