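import Cfsg.Agent.Lib.PSUGraph.Split
import Cfsg.Agent.Lib.PolarAut.PSU
import Cfsg.Agent.Lib.SUCover.Basic
import Cfsg.Agent.Lib.SUShort.Counts
import Cfsg.Agent.Lib.Bender.PGU3.Stab
import Mathlib.FieldTheory.Finite.GaloisField

/-!
An extension of `PSU_3(q)` of odd index whose involution centralisers centralise the root group is `PGU_3(q)`.
-/

set_option autoImplicit false
set_option linter.unusedSectionVars false
set_option linter.style.haveILetI false

namespace CfsgLib.Bender.PGU3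

open Matrix CfsgLib.UnitaryTransvection CfsgLib.UnitarySimple CfsgLib.PSUGraph

universe u v

variable {F : Type u} [Field F] [Fintype F] {q : ℕ} (hF : Fintype.card F = q ^ 2)

local notation "h" => Cfsg.hermForm 3 F q
local notation "σ" => frob hF

include hF in
/-- The scalar of two congruent elements of `SU`. -/
theorem scalar_of_mk_eq {s t : Cfsg.SU 3 F q}
    (e : (QuotientGroup.mk s : Cfsg.PSU 3 F q) = QuotientGroup.mk t) :
    ∃ r : F, ∀ x, mat t *ᵥ x = r • (mat s *ᵥ x) := by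
  obtain ⟨r, hr⟩ := CfsgLib.SUCover.center_scalar hF le_rfl (QuotientGroup.eq.mp e)
  refine ⟨r, fun x => ?_⟩
  rw [show t = s * (s⁻¹ * t) by group, mat_mul, ← mulVec_mulVec, hr]
  rw [show (Matrix.scalar (Fin 3) r) *ᵥ x = r • x by
    ext i; simp [Matrix.scalar_apply, Matrix.mulVec_diagonal], mulVec_smul]

variable [CharP F 2]

/-- The transvection in `SU` with a parameter fixed by the field involution. -/
noncomputable def tr {v : Fin 3 → F} (hv : h v v = 0) (c : F) (hc : σ c = c) : Cfsg.SU 3 F q :=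
  tv hF v hv c (by rw [hc, CharTwo.add_self_eq_zero])

theorem tr_mulVec {v : Fin 3 → F} (hv : h v v = 0) (c : F) (hc : σ c = c) (x : Fin 3 → F) :
    mat (tr hF hv c hc) *ᵥ x = x + (c * h x v) • v := tv_mulVec hF v hv c _ x

theorem tr_sq {v : Fin 3 → F} (hv : h v v = 0) (c : F) (hc : σ c = c) :
    tr hF hv c hc * tr hF hv c hc = 1 := su_ext fun x => by
  rw [mat_mul, ← mulVec_mulVec, tr_mulVec, tr_mulVec, mat_one, one_mulVec, h_add_left, h_smul_left, hv, mul_zero,
    add_zero, add_assoc, ← add_smul, CharTwo.add_self_eq_zero, zero_smul, add_zero]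

theorem tr_comm {v : Fin 3 → F} (hv : h v v = 0) (c c' : F) (hc : σ c = c) (hc' : σ c' = c') :
    tr hF hv c hc * tr hF hv c' hc' = tr hF hv c' hc' * tr hF hv c hc := su_ext fun x => by
  simp only [mat_mul, ← mulVec_mulVec, tr_mulVec, h_add_left, h_smul_left, hv, mul_zero, add_zero]
  abel

theorem tr_mk_ne {v u w : Fin 3 → F} (hf : Frame hF v u w) {c : F} (hc : σ c = c) (hc0 : c ≠ 0) :
    (QuotientGroup.mk (tr hF hf.vv c hc) : Cfsg.PSU 3 F q) ≠ 1 := by
  intro e
  obtain ⟨r, hr⟩ := scalar_of_mk_eq hF (s := 1) (t := tr hF hf.vv c hc) e.symm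
  have h3 := congrArg (fun z => h z w) (hr w)
  simp [tr_mulVec, mat_one, h_add_left, h_smul_left, hf.ww, hf.wv, hf.vw, hc0] at h3

/-- An automorphism fixing a root group pointwise squares to an inner-diagonal one. -/
theorem sq_mem_range {v u w : Fin 3 → F} (hf : Frame hF v u w) (hq : 2 < q) (β : MulAut (Cfsg.PSU 3 F q))
    (hfix : ∀ (c : F) (hc : σ c = c), c ≠ 0 →
      β (QuotientGroup.mk (tr hF hf.vv c hc)) = QuotientGroup.mk (tr hF hf.vv c hc)) :
    β * β ∈ (ρ hF (n := 3)).range := by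
  obtain ⟨g, τ, hg, hind⟩ := CfsgLib.PolarAut.psu_semilinear hF le_rfl (by omega) β
  set x : ↥(GS hF 3) := ⟨g, GU_le_GS hF hg⟩
  have hβ : β = conjP hF x * fieldP hF τ := MulEquiv.ext fun a => QuotientGroup.induction_on a fun s =>
    hind s (conjSU hF x (fieldSU hF τ s)) rfl
  let T : (Fin 3 → F) → (Fin 3 → F) := fun y => g.1 *ᵥ fun i => τ (y i)
  have hTsmul : ∀ (l : F) y, T (l • y) = τ l • T y := fun l y => by
    show g.1 *ᵥ (fun i => τ ((l • y) i)) = τ l • (g.1 *ᵥ _)
    rw [show (fun i => τ ((l • y) i)) = τ l • (fun i => τ (y i)) from funext fun i => map_mul τ _ _, mulVec_smul]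
  have hTadd : ∀ y y', T (y + y') = T y + T y' := fun y y' => by
    show g.1 *ᵥ (fun i => τ ((y + y') i)) = _
    rw [show (fun i => τ ((y + y') i)) = (fun i => τ (y i)) + (fun i => τ (y' i)) from
      funext fun i => map_add τ _ _, mulVec_add]
  have hT0 : ∀ y, T y = 0 → y = 0 := fun y e => by
    have h1 : (g⁻¹).1 *ᵥ T y = (g⁻¹).1 *ᵥ (0 : Fin 3 → F) := by rw [e]
    rw [mulVec_mulVec, Units.inv_mul, one_mulVec, mulVec_zero] at h1
    funext i
    exact (map_eq_zero τ).mp (congrFun h1 i)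
  have heq : ∀ (c : F) (hc : σ c = c), c ≠ 0 → ∃ r : F, ∀ y,
      T y + (τ c * τ (h y v)) • T v = r • (T y + (c * h (T y) v) • v) := by
    intro c hc hc0
    set t := tr hF hf.vv c hc
    have hm : (QuotientGroup.mk t : Cfsg.PSU 3 F q) = QuotientGroup.mk (conjSU hF x (fieldSU hF τ t)) := by
      rw [← hind t (conjSU hF x (fieldSU hF τ t)) rfl, hfix c hc hc0]
    obtain ⟨r, hr⟩ := scalar_of_mk_eq hF hm
    refine ⟨r, fun y => ?_⟩
    have h1 := hr (T y)
    have h2 : mat (conjSU hF x (fieldSU hF τ t)) *ᵥ T y = T (mat t *ᵥ y) := by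
      show (g.1 * (mat t).map τ * (g⁻¹).1) *ᵥ (g.1 *ᵥ _) = _
      rw [mulVec_mulVec, Matrix.mul_assoc, Units.inv_mul, Matrix.mul_one, ← mulVec_mulVec]
      congr 1
      funext i
      exact (RingHom.map_mulVec τ.toRingHom (mat t) y i).symm
    rw [h2, tr_mulVec, tr_mulVec, hTadd, hTsmul, map_mul] at h1
    exact h1
  have h1' : σ (1 : F) = 1 := map_one _
  obtain ⟨r1, hr1⟩ := heq 1 h1' one_ne_zero
  have hv0 : T v ≠ 0 := fun e => v_ne hF hf (hT0 v e)
  have hone : ∀ (c : F) (r : F), (∀ y, T y + (τ c * τ (h y v)) • T v = r • (T y + (c * h (T y) v) • v)) → r = 1 := by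
    intro c r hr
    have hv1 := hr v
    rw [hf.vv, map_zero, mul_zero, zero_smul, add_zero] at hv1
    by_contra hne
    set μ := h (T v) v with hμ
    have h5 : (1 - r) * μ = 0 := by
      have h6 := congrArg (fun z => h z v) hv1
      simp [h_add_left, h_smul_left, hf.vv, ← hμ] at h6
      linear_combination h6
    rcases mul_eq_zero.mp h5 with e | e
    · exact hne (sub_eq_zero.mp e).symm
    · rw [e, mul_zero, zero_smul, add_zero] at hv1
      exact hne (smul_left_injective F hv0 (hv1.symm.trans (one_smul F _).symm))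
  have hw1 : T v = h (T w) v • v := by
    have := hr1 w
    rw [hone 1 r1 hr1, one_smul, hf.wv, map_one, one_mul, one_smul, one_mul, add_right_inj] at this
    exact this
  have hl : h (T w) v ≠ 0 := fun e => hv0 (by rw [hw1, e, zero_smul])
  have hτfix : ∀ c : F, σ c = c → τ c = c := by
    intro c hc
    rcases eq_or_ne c 0 with rfl | hc0
    · exact map_zero τ
    obtain ⟨r, hr⟩ := heq c hc hc0
    have h2 := hr w
    rw [hone c r hr, one_smul, hf.wv, map_one, mul_one, add_right_inj, hw1, smul_smul] at h2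
    exact mul_right_cancel₀ hl (smul_left_injective F (v_ne hF hf) h2)
  have hττ : ∀ y : F, τ (τ y) = y := by
    intro y
    have hcomm : τ (σ y) = σ (τ y) := by rw [frob_apply, frob_apply, map_pow]
    have h1 : τ y + σ (τ y) = y + σ y := by
      rw [← hcomm, ← map_add]
      exact hτfix _ (by rw [map_add, frob_frob hF, add_comm])
    have h2 : τ y * σ (τ y) = y * σ y := by
      rw [← hcomm, ← map_mul]
      exact hτfix _ (by rw [map_mul, frob_frob hF, mul_comm])
    have h3 : (τ y - y) * (τ y - σ y) = 0 := by linear_combination (τ y) * h1 - h2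
    rcases mul_eq_zero.mp h3 with e | e
    · rw [sub_eq_zero] at e
      rw [e, e]
    · rw [sub_eq_zero] at e
      rw [e, hcomm, e, frob_frob hF]
  have hττ1 : (τ : RingAut F) * τ = 1 := RingEquiv.ext hττ
  have hsq : β * β = conjP hF (x * mapGS hF τ x) := by
    rw [hβ, map_mul]
    calc conjP hF x * fieldP hF τ * (conjP hF x * fieldP hF τ)
        = conjP hF x * (fieldP hF τ * conjP hF x) * fieldP hF τ := by simp only [mul_assoc]
      _ = conjP hF x * conjP hF (mapGS hF τ x) * (fieldP hF τ * fieldP hF τ) := by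
          rw [fieldP_conjP]; simp only [mul_assoc]
      _ = conjP hF x * conjP hF (mapGS hF τ x) := by
          rw [show fieldP hF (n := 3) τ * fieldP hF τ = 1 from
            (map_mul (fieldP hF (n := 3)) τ τ).symm.trans ((congrArg _ hττ1).trans (map_one _)), mul_one]
  rw [hsq, ← ρ_range hF (by norm_num), inndiag_eq hF (by norm_num)]
  exact ⟨_, rfl⟩

include hF in
omit [CharP F 2] in
theorem center_le_ker : Subgroup.center ↥(Cfsg.GU 3 F q) ≤ (ρ hF (n := 3)).ker := by
  intro z hz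
  refine MonoidHom.mem_ker.mpr (MulEquiv.ext fun a => QuotientGroup.induction_on a fun s => ?_)
  show conjP hF _ (QuotientGroup.mk s) = QuotientGroup.mk s
  rw [conjP_mk]
  congr 1
  refine su_eq ?_
  show z.1.1 * mat s * (z.1⁻¹).1 = mat s
  have h1 : mat s * z.1.1 = z.1.1 * mat s :=
    congrArg (fun y : Cfsg.GU 3 F q => y.1.1)
      (Subgroup.mem_center_iff.mp hz ⟨SpecialLinearGroup.toGL s.1, toGL_mem hF s⟩)
  rw [← h1, Matrix.mul_assoc, Units.mul_inv, Matrix.mul_one]

include hF in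
omit [CharP F 2] in
theorem card_PGU_le {N : ℕ} (hN : N = (q ^ 3 + 1) * ((q - 1) * (q ^ 3 * (q + 1)))) :
    Nat.card (Cfsg.GU 3 F q ⧸ Subgroup.center (Cfsg.GU 3 F q)) * Nat.card (Subgroup.center (Cfsg.GU 3 F q))
      = N * (q + 1) := by
  rw [← Subgroup.card_eq_card_quotient_mul_card_subgroup, UnitaryOrder.card_GU hF, hN]
  have e1 : q ^ 2 - 1 = (q + 1) * (q - 1) := by rw [← Nat.sq_sub_sq, one_pow]
  simp [Finset.prod_range_succ, Nat.even_iff]
  rw [e1]
  ring

include hF in
/-- The recognition of `PGU_3(q)`. -/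
theorem identify {G : Type v} [Group G] [Finite G] (hq : 2 < q) {L : Subgroup G} [L.Normal]
    (hodd : Odd L.index) (e : L ≃* Cfsg.PSU 3 F q)
    (hcard : Nat.card G = (q ^ 3 + 1) * ((q - 1) * (q ^ 3 * (q + 1))))
    (hcent : ∀ g : G, (∀ l ∈ L, g * l = l * g) → g = 1)
    (hconj : ∀ x i : G, x ≠ 1 → x * x = 1 → i ≠ 1 → i * i = 1 → ∃ l ∈ L, l * x * l⁻¹ = i)
    (hcomm : ∀ x i g : G, x ≠ 1 → x * x = 1 → i * i = 1 → i * x = x * i → g * x = x * g → i * g = g * i) :
    Nonempty (G ≃* (↥(Cfsg.GU 3 F q) ⧸ Subgroup.center ↥(Cfsg.GU 3 F q))) := by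
  obtain ⟨v, u, w, hf⟩ := exists_frame hF
  have h1' : σ (1 : F) = 1 := map_one _
  let ψ : G →* MulAut (Cfsg.PSU 3 F q) := (MulAut.congr e).toMonoidHom.comp MulAut.conjNormal
  have hψ : ∀ (g : G) (a : Cfsg.PSU 3 F q), (e.symm (ψ g a) : G) = g * (e.symm a : G) * g⁻¹ := fun g a => by
    show (e.symm (e (MulAut.conjNormal g (e.symm a))) : G) = _
    rw [MulEquiv.symm_apply_apply, MulAut.conjNormal_apply]
  have hinj : Function.Injective ψ := by
    rw [injective_iff_map_eq_one]
    intro g hg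
    refine hcent g fun l hl => ?_
    have h2 := hψ g (e ⟨l, hl⟩)
    rw [hg, MulAut.one_apply, MulEquiv.symm_apply_apply] at h2
    exact (mul_inv_eq_iff_eq_mul.mp h2.symm)
  set x0 : G := (e.symm (QuotientGroup.mk (tr hF hf.vv 1 h1')) : G) with hx0
  have hinv : ∀ (c : F) (hc : σ c = c),
      (e.symm (QuotientGroup.mk (tr hF hf.vv c hc)) : G) * (e.symm (QuotientGroup.mk (tr hF hf.vv c hc)) : G) = 1 := by
    intro c hc
    rw [← Subgroup.coe_mul, ← map_mul, ← QuotientGroup.mk_mul, tr_sq, QuotientGroup.mk_one, map_one,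
      Subgroup.coe_one]
  have hx01 : x0 ≠ 1 := fun h0 => tr_mk_ne hF hf h1' one_ne_zero
    (e.symm.injective (Subtype.ext (h0.trans (by rw [map_one, Subgroup.coe_one]))))
  have hrange : ∀ g : G, ψ g ∈ (ρ hF (n := 3)).range := by
    have hL : ∀ l ∈ L, ψ l ∈ (ρ hF (n := 3)).range := by
      intro l hl
      obtain ⟨s, hs⟩ := QuotientGroup.mk_surjective (e ⟨l, hl⟩)
      refine ⟨⟨SpecialLinearGroup.toGL s.1, toGL_mem hF s⟩, ?_⟩
      rw [ρ_toGL, hs]
      refine MulEquiv.ext fun a => e.symm.injective (Subtype.ext ?_)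
      rw [hψ, MulAut.conj_apply, map_mul, map_mul, map_inv, MulEquiv.symm_apply_apply]
      simp
    have hC : ∀ g : G, g * x0 = x0 * g → ψ g ∈ (ρ hF (n := 3)).range := by
      intro g hg
      have h2 : ψ g * ψ g ∈ (ρ hF (n := 3)).range := by
        refine sq_mem_range hF hf hq (ψ g) fun c hc hc0 => e.symm.injective (Subtype.ext ?_)
        rw [hψ]
        refine mul_inv_eq_iff_eq_mul.mpr (hcomm x0 _ g hx01 (hinv 1 h1') (hinv c hc) ?_ hg).symm
        rw [hx0, ← Subgroup.coe_mul, ← Subgroup.coe_mul, ← map_mul, ← map_mul, ← QuotientGroup.mk_mul,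
          ← QuotientGroup.mk_mul, tr_comm]
      obtain ⟨k, hk⟩ := hodd
      have h3 : g ^ (2 * k + 1) ∈ L := hk ▸ Subgroup.pow_index_mem L g
      have h4 : ψ g = ψ (g ^ (2 * k + 1)) * ((ψ g * ψ g) ^ k)⁻¹ := by
        rw [map_pow, ← pow_two, ← pow_mul, pow_succ', mul_inv_cancel_right]
      rw [h4]
      exact mul_mem (hL _ h3) (inv_mem (pow_mem h2 k))
    intro g
    obtain ⟨l, hl, he⟩ := hconj x0 (g * x0 * g⁻¹) hx01 (hinv 1 h1') (fun h0 => hx01 (conj_eq_one_iff.mp h0))
      (by rw [conj_mul, hinv 1 h1', mul_one, mul_inv_cancel])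
    rw [← mul_inv_cancel_left l g, map_mul]
    refine mul_mem (hL l hl) (hC _ ?_)
    calc l⁻¹ * g * x0 = l⁻¹ * (g * x0 * g⁻¹) * g := by group
      _ = x0 * (l⁻¹ * g) := by rw [← he]; group
  let ρ' : (↥(Cfsg.GU 3 F q) ⧸ Subgroup.center ↥(Cfsg.GU 3 F q)) →* MulAut (Cfsg.PSU 3 F q) :=
    QuotientGroup.lift _ (ρ hF (n := 3)) (center_le_ker hF)
  have hle : Nat.card (↥(Cfsg.GU 3 F q) ⧸ Subgroup.center ↥(Cfsg.GU 3 F q)) ≤ Nat.card G := by
    have h1 := card_PGU_le hF hcard
    have h2 := card_center_ge (F := F) hF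
    by_contra hlt
    push Not at hlt
    nlinarith
  haveI : Finite (Cfsg.GU 3 F q) := inferInstance
  have hsub : ψ.range ≤ ρ'.range := by
    rintro _ ⟨g, rfl⟩
    obtain ⟨y, hy⟩ := hrange g
    exact ⟨QuotientGroup.mk y, hy⟩
  have hc1 : Nat.card ψ.range = Nat.card G := (Nat.card_congr (MonoidHom.ofInjective hinj).toEquiv).symm
  have hc2 : Nat.card ρ'.range ≤ Nat.card (↥(Cfsg.GU 3 F q) ⧸ Subgroup.center ↥(Cfsg.GU 3 F q)) :=
    Nat.card_le_card_of_surjective ρ'.rangeRestrict ρ'.rangeRestrict_surjective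
  have hc3 := Nat.card_le_card_of_injective (Subgroup.inclusion hsub) (Subgroup.inclusion_injective hsub)
  have heq : ψ.range = ρ'.range := Subgroup.eq_of_le_of_card_ge hsub (by omega)
  have hinj' : Function.Injective ρ' := by
    have hb : Function.Bijective ρ'.rangeRestrict := by
      haveI := Fintype.ofFinite (↥(Cfsg.GU 3 F q) ⧸ Subgroup.center ↥(Cfsg.GU 3 F q))
      haveI := Fintype.ofFinite ρ'.range
      rw [Fintype.bijective_iff_surjective_and_card]
      refine ⟨ρ'.rangeRestrict_surjective, ?_⟩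
      rw [← Nat.card_eq_fintype_card, ← Nat.card_eq_fintype_card]
      omega
    exact fun a b hab => hb.1 (Subtype.ext hab)
  exact ⟨(MonoidHom.ofInjective hinj).trans ((MulEquiv.subgroupCongr heq).trans
    (MonoidHom.ofInjective hinj').symm)⟩

end CfsgLib.Bender.PGU3
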