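import Cfsg.Agent.Lib.Bender.PGU3.Stab
import Cfsg.Agent.Lib.Bender.TwoClosed.Main
import Cfsg.Agent.Lib.SuzukiRankOne.Unitary
import Cfsg.Agent.Lib.UnitaryOrder

/-!
Groups with the involution centralisers of `PGU_3(q)`: the action on the Sylow 2-subgroups.
-/

set_option autoImplicit false
set_option linter.unusedSectionVars false
set_option linter.style.haveILetI false

namespace CfsgLib.Bender.PGU3

open MulAction Cfsg CfsgLib.Bender.TwoClosed CfsgLib.SuzukiRankOne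
open scoped Pointwise

universe u

variable {G : Type u} [Group G] [Finite G] {q : ℕ}

/-- The centraliser of an element. -/
abbrev C (x : G) : Subgroup G := Subgroup.centralizer ({x} : Set G)

theorem mem_C {x g : G} : g ∈ C x ↔ g * x = x * g := Subgroup.mem_centralizer_singleton_iff

theorem self_mem_C (x : G) : x ∈ C x := mem_C.mpr rfl

variable (hD : ∀ x : G, IsInv x → CentData (C x) q)
include hD

theorem inv_comm {x i g : G} (hx : IsInv x) (hi : i * i = 1) (hiC : i ∈ C x) (hg : g ∈ C x) :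
    i * g = g * i := by
  obtain ⟨_, _, _, _, _, _, _, hinv, _, _⟩ := hD x hx
  exact congrArg Subtype.val (hinv ⟨i, hiC⟩ ⟨g, hg⟩ (Subtype.ext hi))

theorem cent_eq {x i : G} (hx : IsInv x) (hi : IsInv i) (hiC : i ∈ C x) : C i = C x := by
  refine le_antisymm (fun g hg => ?_) fun g hg => mem_C.mpr (inv_comm hD hx hi.2 hiC hg).symm
  exact mem_C.mpr (inv_comm hD hi hx.2 (mem_C.mpr (mem_C.mp hiC).symm) hg).symm

theorem cent_facts {x : G} (hx : IsInv x) :
    ∃ P : Subgroup G, P ≤ C x ∧ IsPGroup 2 P ∧ Nat.card P = q ^ 3 ∧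
      (∀ g ∈ C x, (∃ k : ℕ, g ^ 2 ^ k = 1) → g ∈ P) ∧
      (∀ g ∈ P, g * g * (g * g) = 1) ∧
      (∀ g ∈ C x, (∀ y ∈ P, g * y = y * g) → g ∈ P) ∧
      (∀ g ∈ C x, ∀ y ∈ P, g * y * g⁻¹ ∈ P) := by
  obtain ⟨P, hn, h2, hc, hmem, h4, hcen, -, -, -⟩ := hD x hx
  refine ⟨P.map (C x).subtype, Subgroup.map_subtype_le _, h2.map _,
    by rw [Subgroup.card_map_of_injective (C x).subtype_injective, hc], ?_, ?_, ?_, ?_⟩
  · rintro g hg ⟨k, hk⟩
    exact ⟨⟨g, hg⟩, hmem _ ⟨k, Subtype.ext hk⟩, rfl⟩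
  · rintro _ ⟨g, hg, rfl⟩
    exact congrArg Subtype.val (h4 g hg)
  · intro g hg hgy
    exact ⟨⟨g, hg⟩, hcen _ fun y hy => Subtype.ext (hgy y ⟨y, hy, rfl⟩), rfl⟩
  · rintro g hg _ ⟨y, hy, rfl⟩
    exact ⟨⟨g, hg⟩ * y * ⟨g, hg⟩⁻¹, hn.conj_mem y hy _, rfl⟩

omit hD in
theorem exists_inv_mem_center {Q : Subgroup G} (hQ : IsPGroup 2 Q) {x : G} (hx : x ∈ Q) (hx1 : x ≠ 1) :
    ∃ z ∈ Q, IsInv z ∧ ∀ g ∈ Q, g * z = z * g := by
  haveI : Fact (Nat.Prime 2) := ⟨Nat.prime_two⟩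
  obtain ⟨z, ⟨hzQ, hzc, hz2⟩, hz1⟩ := pcen_ne_bot hQ fun h => hx1 (by rwa [h, Subgroup.mem_bot] at hx)
  exact ⟨z, hzQ, ⟨hz1, by rwa [pow_two] at hz2⟩, hzc⟩

/-- A Sylow 2-subgroup containing an involution lies in its centraliser and is the 2-part of it. -/
theorem sylow_le_C {x : G} (hx : IsInv x) (Q : Sylow 2 G) (hxQ : x ∈ (Q : Subgroup G)) :
    (Q : Subgroup G) ≤ C x := fun g hg => by
  obtain ⟨z, -, hz, hzc⟩ := exists_inv_mem_center Q.isPGroup' hxQ hx.1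
  exact (inv_comm hD hz hx.2 (mem_C.mpr (hzc x hxQ)) (mem_C.mpr (hzc g hg))).symm |> mem_C.mpr

theorem sylow_eq {x : G} (hx : IsInv x) (Q Q' : Sylow 2 G) (h : x ∈ (Q : Subgroup G))
    (h' : x ∈ (Q' : Subgroup G)) : Q = Q' := by
  obtain ⟨P, -, h2, -, hmem, -⟩ := cent_facts hD hx
  have hle : ∀ R : Sylow 2 G, x ∈ (R : Subgroup G) → (R : Subgroup G) = P := fun R hR => by
    refine (R.3 h2 fun g hg => hmem g (sylow_le_C hD hx R hR hg) ?_).symm
    obtain ⟨k, hk⟩ := R.isPGroup' ⟨g, hg⟩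
    exact ⟨k, congrArg Subtype.val hk⟩
  exact Sylow.ext ((hle Q h).trans (hle Q' h').symm)

theorem fix_iff {x : G} (hx : IsInv x) (Q : Sylow 2 G) : x • Q = Q ↔ x ∈ (Q : Subgroup G) := by
  haveI : Fact (Nat.Prime 2) := ⟨Nat.prime_two⟩
  rw [Sylow.smul_eq_iff_mem_normalizer]
  refine ⟨fun h => ?_, fun h => Subgroup.le_normalizer h⟩
  have hp : IsPGroup 2 (Subgroup.zpowers x) := IsPGroup.of_card (n := 1)
    (by rw [Nat.card_zpowers, pow_one, orderOf_eq_prime (show x ^ 2 = 1 by rw [pow_two, hx.2]) hx.1])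
  have h1 : x ∈ Subgroup.zpowers x ⊓ Subgroup.normalizer (Q : Set G) := ⟨Subgroup.mem_zpowers x, h⟩
  rw [hp.inf_normalizer_sylow Q] at h1
  exact h1.2

variable (hq : 2 < q) (heven : Even (Nat.card G)) (hnn : ∀ P : Sylow 2 G, ¬ (P : Subgroup G).Normal)
include hq heven hnn

theorem exists_point : ∃ (a : Sylow 2 G) (x : G), IsInv x ∧ x ∈ (a : Subgroup G) := by
  haveI : Fact (Nat.Prime 2) := ⟨Nat.prime_two⟩
  obtain ⟨x, -, hx⟩ := exists_inv_of_even (K := (⊤ : Subgroup G)) (by rwa [Subgroup.card_top])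
  obtain ⟨a, ha⟩ := (IsPGroup.of_card (n := 1) (show Nat.card (Subgroup.zpowers x) = 2 ^ 1 by
    rw [Nat.card_zpowers, pow_one, orderOf_eq_prime (show x ^ 2 = 1 by rw [pow_two, hx.2]) hx.1])).exists_le_sylow
  exact ⟨a, x, hx, ha (Subgroup.mem_zpowers x)⟩

theorem closed (a : Sylow 2 G) : Closed G (Sylow 2 G) a (a : Subgroup G) := by
  haveI : Fact (Nat.Prime 2) := ⟨Nat.prime_two⟩
  have hstab : ∀ g : G, g • a = a ↔ g ∈ Subgroup.normalizer ((a : Subgroup G) : Set G) := fun g =>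
    Sylow.smul_eq_iff_mem_normalizer
  refine ⟨inferInstance, fun x hx => ?_, ?_, ?_, ?_, a.isPGroup', ?_⟩
  · obtain ⟨Q, hQ⟩ := (IsPGroup.of_card (n := 1) (show Nat.card (Subgroup.zpowers x) = 2 ^ 1 by
      rw [Nat.card_zpowers, pow_one, orderOf_eq_prime (show x ^ 2 = 1 by rw [pow_two, hx.2]) hx.1])).exists_le_sylow
    have hxQ := hQ (Subgroup.mem_zpowers x)
    exact ⟨Q, (fix_iff hD hx Q).mpr hxQ, fun R hR => sylow_eq hD hx R Q ((fix_iff hD hx R).mp hR) hxQ⟩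
  · obtain ⟨-, x, hx, -⟩ := exists_point hD hq heven hnn
    obtain ⟨_, _, _, _, _, _, _, _, hcount, _⟩ := hD x hx
    obtain ⟨i, hi⟩ : ∃ i : {i : C x // i ≠ 1 ∧ i * i = 1}, ((i.1 : C x) : G) ≠ x := by
      by_contra h
      push Not at h
      have h1 : Nat.card {i : C x // i ≠ 1 ∧ i * i = 1} ≤ 1 :=
        Finite.card_le_one_iff_subsingleton.mpr ⟨fun i j => Subtype.ext (Subtype.ext ((h i).trans (h j).symm))⟩
      omega
    exact ⟨x, i.1, hx.1, fun e => i.2.1 (Subtype.ext e), hi.symm, hx.2, congrArg Subtype.val i.2.2,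
      (mem_C.mp i.1.2).symm⟩
  · exact fun g hg => mem_stabilizer_iff.mpr ((hstab g).mpr (Subgroup.le_normalizer hg))
  · exact fun g hg x hx => conj_mem_of_normalizer ((hstab g).mp hg) hx
  · rintro g hg ⟨k, hk⟩
    have hp : IsPGroup 2 (Subgroup.zpowers g) := by
      obtain ⟨j, -, hj⟩ := (Nat.dvd_prime_pow Nat.prime_two).mp (orderOf_dvd_of_pow_eq_one hk)
      exact IsPGroup.of_card (n := j) (by rw [Nat.card_zpowers, hj])
    have h1 : g ∈ Subgroup.zpowers g ⊓ Subgroup.normalizer (a : Set G) :=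
      ⟨Subgroup.mem_zpowers g, (hstab g).mp hg⟩
    rw [hp.inf_normalizer_sylow a] at h1
    exact h1.2

theorem faithful : FaithfulSMul G (Sylow 2 G) := by
  haveI : Fact (Nat.Prime 2) := ⟨Nat.prime_two⟩
  obtain ⟨a, x, hx, hxa⟩ := exists_point hD hq heven hnn
  obtain ⟨g, hg⟩ : ∃ g : G, g • a ≠ a := by
    by_contra h
    push Not at h
    refine hnn a ⟨fun y hy g => ?_⟩
    exact conj_mem_of_normalizer (Sylow.smul_eq_iff_mem_normalizer.mp (h g)) hy
  set K := (toPermHom G (Sylow 2 G)).ker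
  have hKfix : ∀ k ∈ K, ∀ Q : Sylow 2 G, k • Q = Q := fun k hk Q =>
    congrFun (congrArg DFunLike.coe (MonoidHom.mem_ker.mp hk)) Q
  have hKodd : Odd (Nat.card K) := odd_card_of_forall fun k hk hi =>
    hg (sylow_eq hD hi _ _ ((fix_iff hD hi _).mp (hKfix k hk _)) ((fix_iff hD hi _).mp (hKfix k hk _)))
  have hKn : K.Normal := inferInstance
  have hKa : ∀ k ∈ K, ∀ y ∈ (a : Subgroup G), k * y = y * k := fun k hk y hy => by
    have h1 : k * y * k⁻¹ * y⁻¹ ∈ (a : Subgroup G) :=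
      mul_mem (conj_mem_of_normalizer (Sylow.smul_eq_iff_mem_normalizer.mp (hKfix k hk a)) hy) (inv_mem hy)
    have h2 : k * y * k⁻¹ * y⁻¹ ∈ K := by
      rw [show k * y * k⁻¹ * y⁻¹ = k * (y * k⁻¹ * y⁻¹) by group]
      exact mul_mem hk (hKn.conj_mem _ (inv_mem hk) y)
    have h3 : k * y * k⁻¹ * y⁻¹ = 1 := by
      obtain ⟨j, hj⟩ := a.isPGroup' ⟨_, h1⟩
      exact orderOf_eq_one_iff.mp (Nat.Coprime.eq_one_of_dvd
        ((Nat.coprime_two_right.mpr (odd_orderOf hKodd h2)).pow_right j)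
        (orderOf_dvd_of_pow_eq_one (congrArg Subtype.val hj)))
    rwa [mul_inv_eq_one, mul_inv_eq_iff_eq_mul] at h3
  obtain ⟨P, hPC, h2, -, hmem, -, hcen, -⟩ := cent_facts hD hx
  have hPa : P ≤ (a : Subgroup G) := by
    refine (a.3 h2 fun y hy => hmem y (sylow_le_C hD hx a hxa hy) ?_).le
    obtain ⟨j, hj⟩ := a.isPGroup' ⟨y, hy⟩
    exact ⟨j, congrArg Subtype.val hj⟩
  have hK1 : ∀ k ∈ K, k = 1 := fun k hk => by
    have hkC : k ∈ C x := mem_C.mpr (hKa k hk x hxa)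
    obtain ⟨j, hj⟩ := h2 ⟨k, hcen k hkC fun y hy => hKa k hk y (hPa hy)⟩
    exact orderOf_eq_one_iff.mp (Nat.Coprime.eq_one_of_dvd
      ((Nat.coprime_two_right.mpr (odd_orderOf hKodd hk)).pow_right j)
      (orderOf_dvd_of_pow_eq_one (congrArg Subtype.val hj)))
  refine ⟨fun {g g'} hgg => ?_⟩
  refine (inv_mul_eq_one.mp (hK1 (g'⁻¹ * g) (MonoidHom.mem_ker.mpr (Equiv.ext fun Q => ?_)))).symm
  show (g'⁻¹ * g) • Q = Q
  rw [mul_smul, hgg Q, inv_smul_smul]

/-- The conclusion on the group, given part B. -/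
theorem structure_thm (hB : PartB.{u, u}) :
    ∃ (a : Sylow 2 G) (x : G) (L : Subgroup G), IsInv x ∧ L.Normal ∧ Odd L.index ∧
      Nat.card (a : Subgroup G) = q ^ 3 ∧
      Nat.card G = (q ^ 3 + 1) * ((q - 1) * (q ^ 3 * (q + 1))) ∧
      (∀ i : G, IsInv i → ∃ l ∈ L, l * x * l⁻¹ = i) ∧
      (∀ g : G, (∀ l ∈ L, g * l = l * g) → g = 1) ∧
      ∃ (K : Type) (_ : Field K) (_ : Fintype K) (n : ℕ),
        2 ≤ n ∧ Fintype.card K = (2 ^ n) ^ 2 ∧ Nonempty (L ≃* Cfsg.PSU 3 K (2 ^ n)) := by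
  haveI : Fact (Nat.Prime 2) := ⟨Nat.prime_two⟩
  haveI := faithful hD hq heven hnn
  obtain ⟨a, x, hx, hxa⟩ := exists_point hD hq heven hnn
  have hC := closed hD hq heven hnn a
  have hxfix : x • a = a := (fix_iff hD hx a).mpr hxa
  obtain ⟨t, hS⟩ := exists_setup hB hC
  obtain ⟨hQ2, hsh, -⟩ := hB G (Sylow 2 G) a t (a : Subgroup G) hS hC.four
  obtain ⟨P, hPC, h2, hPcard, hmem, h4, hcen, hPn⟩ := cent_facts hD hx
  obtain ⟨_, _, _, _, _, _, _, _, hcount, hCcard⟩ := hD x hx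
  have haP : (a : Subgroup G) = P := by
    refine (a.3 h2 fun g hg => hmem g (sylow_le_C hD hx a hxa hg) ?_).symm
    obtain ⟨k, hk⟩ := a.isPGroup' ⟨g, hg⟩
    exact ⟨k, congrArg Subtype.val hk⟩
  have hacard : Nat.card (a : Subgroup G) = q ^ 3 := by rw [haP, hPcard]
  have hinvat : Nat.card (InvAt G a) = q - 1 := by
    rw [← hcount]
    refine Nat.card_congr
      { toFun := fun i => ⟨⟨i.1, sylow_le_C hD hx a hxa ((fix_iff hD i.2.1 a).mp i.2.2)⟩,
          fun e => i.2.1.1 (congrArg Subtype.val e), Subtype.ext i.2.1.2⟩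
        invFun := fun i => ⟨i.1.1, ⟨fun e => i.2.1 (Subtype.ext e), congrArg Subtype.val i.2.2⟩, ?_⟩
        left_inv := fun i => rfl
        right_inv := fun i => rfl }
    refine mem_stabilizer_iff.mp (hC.le ?_)
    rw [haP]
    exact hmem _ i.1.2 ⟨1, by rw [pow_one, pow_two]; exact congrArg Subtype.val i.2.2⟩
  have hqZ : qZ G a = q := by rw [qZ_eq hC, hinvat]; omega
  have hr : Rsq a t (a : Subgroup G) := by
    have hq3 : q ^ 2 < q ^ 3 := Nat.pow_lt_pow_right (by omega) (by omega)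
    rcases hsh with h | ⟨-, ⟨-, h⟩ | ⟨h, -⟩⟩
    · have h1 : Nat.card (omega hC) = Nat.card (a : Subgroup G) :=
        Nat.card_congr (Equiv.subtypeEquivRight fun y => ⟨fun hy => hy.1, fun hy => ⟨hy, h y hy⟩⟩)
      rw [card_omega hC, hinvat, hacard] at h1
      have := Nat.le_self_pow (n := 2) (by norm_num) q
      omega
    · exact h
    · rw [hacard, hqZ] at h
      omega
  obtain ⟨L, hLn, hLodd, K, iK, iKf, n, hn2, hK, ⟨e⟩⟩ := unitary hS hC.four hQ2
    (fun g hg => h4 g (haP ▸ hg)) hr (by rw [hacard, hqZ])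
  haveI := hLn
  have htwo : ∀ g : G, (∃ k : ℕ, g ^ 2 ^ k = 1) → g ∈ L := by
    rintro g ⟨k, hk⟩
    rw [← QuotientGroup.eq_one_iff, ← orderOf_eq_one_iff]
    exact Nat.Coprime.eq_one_of_dvd
      (((Nat.coprime_two_right.mpr hLodd).pow_right k).coprime_dvd_left (orderOf_dvd_natCard (g : G ⧸ L)))
      (orderOf_dvd_of_pow_eq_one (by rw [← QuotientGroup.mk_pow, hk, QuotientGroup.mk_one]))
  have hinvL : ∀ i : G, IsInv i → i ∈ L := fun i hi => htwo i ⟨1, by rw [pow_one, pow_two, hi.2]⟩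
  obtain ⟨b, hb⟩ := TwoClosed.exists_ne hC
  have hconj : ∀ i : G, IsInv i → ∃ l ∈ L, l * x * l⁻¹ = i := by
    have key : ∀ {i j : G} {c d : Sylow 2 G}, IsInv i → i • c = c → IsInv j → j • d = d → c ≠ d →
        ∃ u ∈ L, u * i * u⁻¹ = j := by
      intro i j c d hi hc hj hd hne
      obtain ⟨u, hu, he, -⟩ := exists_swap_conj hC hi hc hj hd hne
      exact ⟨u, hinvL u hu, by rw [hu.inv, he]⟩
    intro i hi
    obtain ⟨c, hc⟩ := exists_fix hC hi
    rcases eq_or_ne a c with rfl | hne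
    · obtain ⟨j, hj, hjb⟩ := exists_inv_at hC b
      obtain ⟨u, hu, he⟩ := key hx hxfix hj hjb hb.symm
      obtain ⟨u', hu', he'⟩ := key hj hjb hi hc hb
      exact ⟨u' * u, mul_mem hu' hu, by rw [← he', ← he]; group⟩
    · exact key hx hxfix hi hc hne
  have hSL : (a : Subgroup G) ≤ L := fun g hg => htwo g (by
    obtain ⟨k, hk⟩ := a.isPGroup' ⟨g, hg⟩
    exact ⟨k, congrArg Subtype.val hk⟩)
  have hcent : ∀ g : G, (∀ l ∈ L, g * l = l * g) → g = 1 := by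
    intro g hg
    have hgC : g ∈ C x := mem_C.mpr (hg x (hinvL x hx))
    have hgP : g ∈ (a : Subgroup G) := by
      rw [haP]
      exact hcen g hgC fun y hy => hg y (hSL (haP ▸ hy))
    obtain ⟨j, hj, hjb⟩ := exists_inv_at hC b
    exact eq_one_of_fix hC hgP (commute_fix hC hj hjb (hg j (hinvL j hj))) hb
  haveI : IsPretransitive (stabilizer G a) (InvAt G a) := ⟨fun i j => by
    obtain ⟨g, hg, he⟩ := exists_conj_stab hC i.2.1 i.2.2 j.2.1 j.2.2 hb.symm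
    exact ⟨⟨g, hg.1⟩, Subtype.ext he⟩⟩
  have hstab : Nat.card (stabilizer G a) = (q - 1) * (q ^ 3 * (q + 1)) := by
    have hsub : C x ≤ stabilizer G a := fun g hg => by
      rw [mem_stabilizer_iff, Sylow.smul_eq_iff_mem_normalizer]
      exact mem_normalizer_of_conj fun y hy => by
        rw [haP] at hy ⊢
        exact hPn g hg y hy
    let x0 : InvAt G a := ⟨x, hx, hxfix⟩
    have h1 : stabilizer (stabilizer G a) x0 = (C x).subgroupOf (stabilizer G a) := by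
      ext g
      rw [mem_stabilizer_iff, Subgroup.mem_subgroupOf, mem_C, ← mul_inv_eq_iff_eq_mul]
      exact ⟨fun h => congrArg Subtype.val h, fun h => Subtype.ext h⟩
    have h2' := Subgroup.index_mul_card (stabilizer (stabilizer G a) x0)
    rw [index_stabilizer_of_transitive, hinvat, h1, Nat.card_congr (Subgroup.subgroupOfEquivOfLe hsub).toEquiv,
      hCcard] at h2'
    exact h2'.symm
  have hG : Nat.card G = (q ^ 3 + 1) * ((q - 1) * (q ^ 3 * (q + 1))) := by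
    rw [← Subgroup.index_mul_card (stabilizer G a), index_stabilizer_of_transitive,
      CfsgLib.RankOne.card_points hS, hacard, hstab]
  exact ⟨a, x, L, hx, hLn, hLodd, hacard, hG, hconj, hcent, K, iK, iKf, n, hn2, hK, ⟨e⟩⟩

end CfsgLib.Bender.PGU3
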