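import Cfsg.Agent.Lib.SuzukiRankOne.Main
import Cfsg.Agent.Lib.Bender.PGU3.Structure
import Cfsg.Agent.Lib.Bender.PGU3.Identify

/-! Assembly of the recognition of `PGU_3(q)`, `q` even. -/

set_option autoImplicit false

namespace CfsgLib.Bender.PGU3

open MulAction Cfsg CfsgLib.Bender.TwoClosed CfsgLib.SuzukiRankOne

universe u v

theorem partB : PartB.{u, v} := fun _ _ _ _ _ _ _ _ _ hS h2 => CfsgLib.SuzukiRankOne.concl hS h2

/-- A group with the involution centralisers of `PGU_3(q)` and non-normal Sylow 2-subgroups. -/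
theorem recognise {G : Type u} [Group G] [Finite G] {F : Type v} [Field F] [Fintype F] [CharP F 2] (q : ℕ)
    (hq : 2 < q) (hF : Fintype.card F = q ^ 2) (heven : Even (Nat.card G))
    (hC : ∀ (x : G) (y : (↥(Cfsg.GU 3 F q) ⧸ Subgroup.center ↥(Cfsg.GU 3 F q))), orderOf x = 2 → orderOf y = 2 →
      Nonempty (↥(Subgroup.centralizer ({x} : Set G)) ≃*
        ↥(Subgroup.centralizer ({y} : Set (↥(Cfsg.GU 3 F q) ⧸ Subgroup.center ↥(Cfsg.GU 3 F q))))))
    (hS : ∀ P : Sylow 2 G, ¬ (P : Subgroup G).Normal) :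
    Nonempty (G ≃* (↥(Cfsg.GU 3 F q) ⧸ Subgroup.center ↥(Cfsg.GU 3 F q))) := by
  haveI : Fact (Nat.Prime 2) := ⟨Nat.prime_two⟩
  obtain ⟨v, u, w, hf⟩ := exists_frame hF
  obtain ⟨y, hy, hyD⟩ := exists_centData hF hf
  have hD : ∀ x : G, IsInv x → CentData (C x) q := fun x hx =>
    hyD.transport (hC x y (orderOf_eq_prime (by rw [pow_two, hx.2]) hx.1) hy).some
  obtain ⟨a, x, L, hx, hLn, hodd, hacard, hcard, hconj, hcent, K, iK, iKf, n, hn, hK, ⟨e⟩⟩ :=
    structure_thm hD hq heven hS partB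
  haveI := hLn
  obtain ⟨d, -, hd⟩ := FiniteField.card F 2
  rw [hF] at hd
  obtain ⟨m, -, hm⟩ := (Nat.dvd_prime_pow Nat.prime_two).mp (show q ∣ 2 ^ (d : ℕ) from hd ▸ dvd_pow_self q two_ne_zero)
  have hm0 : m ≠ 0 := fun e0 => by rw [hm, e0] at hq; omega
  have hevq : Even q := hm ▸ even_two.pow_of_ne_zero hm0
  have hoddq3 : ¬ 2 ∣ q ^ 3 + 1 := fun h =>
    Nat.not_even_iff_odd.mpr ((hevq.pow_of_ne_zero (by norm_num)).add_one) (even_iff_two_dvd.mpr h)
  -- the 2-parts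
  have hG2 : (Nat.card G).factorization 2 = 3 * m := by
    have h1 := a.card_eq_multiplicity
    rw [hacard, hm, ← pow_mul] at h1
    rw [← Nat.pow_right_injective le_rfl h1, mul_comm]
  have hL2 : (Nat.card L).factorization 2 = 3 * m := by
    rw [← hG2, ← L.index_mul_card, Nat.factorization_mul L.index_ne_zero_of_finite Nat.card_pos.ne',
      Finsupp.add_apply, Nat.factorization_eq_zero_of_not_dvd (fun h =>
        Nat.not_even_iff_odd.mpr hodd (even_iff_two_dvd.mpr h)), zero_add]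
  have hn0 : n ≠ 0 := by omega
  have hPSU : (Nat.card (Cfsg.PSU 3 K (2 ^ n))).factorization 2 = 3 * n := by
    have h1 := (Subgroup.center (Cfsg.SU 3 K (2 ^ n))).card_eq_card_quotient_mul_card_subgroup
    have h2 := (CfsgLib.SUCover.center_cyclic hK le_rfl).2
    have hev : Even (2 ^ n) := even_two.pow_of_ne_zero hn0
    have hGU : Nat.card (Cfsg.GU 3 K (2 ^ n)) =
        (2 ^ n) ^ 3 * ((2 ^ n + 1) * ((2 ^ n) ^ 2 - 1) * ((2 ^ n) ^ 3 + 1)) := by
      rw [UnitaryOrder.card_GU hK]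
      simp [Finset.prod_range_succ, Nat.even_iff]
    have h3 : 2 ^ (n * 3) * ((2 ^ n + 1) * ((2 ^ n) ^ 2 - 1) * ((2 ^ n) ^ 3 + 1)) =
        (2 ^ n + 1) * (Nat.card (Cfsg.PSU 3 K (2 ^ n)) * Nat.card (Subgroup.center (Cfsg.SU 3 K (2 ^ n)))) := by
      rw [pow_mul, ← hGU, UnitaryOrder.card_GU_eq hK (by norm_num), h1]
    have hfacodd : ∀ {k : ℕ}, Odd k → k.factorization 2 = 0 := fun {k} hk =>
      Nat.factorization_eq_zero_of_not_dvd fun h => Nat.not_even_iff_odd.mpr hk (even_iff_two_dvd.mpr h)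
    have ho1 : Odd (2 ^ n + 1) := hev.add_one
    have ho2 : Odd ((2 ^ n) ^ 2 - 1) := by
      obtain ⟨j, hj⟩ := hev.pow_of_ne_zero (show (2 : ℕ) ≠ 0 by norm_num)
      have : 0 < (2 ^ n) ^ 2 := by positivity
      exact ⟨j - 1, by omega⟩
    have ho3 : Odd ((2 ^ n) ^ 3 + 1) := (hev.pow_of_ne_zero (by norm_num)).add_one
    have ho4 : Odd (Nat.card (Subgroup.center (Cfsg.SU 3 K (2 ^ n)))) := by
      rw [h2]
      exact (show Odd 3 by decide).of_dvd_nat (Nat.gcd_dvd_left _ _)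
    have h4 := congrArg (fun k : ℕ => k.factorization 2) h3
    simp only [Nat.factorization_mul (pow_ne_zero _ two_ne_zero) ((ho1.mul ho2).mul ho3).pos.ne',
      Nat.factorization_mul ho1.pos.ne' (mul_ne_zero Nat.card_pos.ne' ho4.pos.ne'),
      Nat.factorization_mul (Nat.card_pos (α := Cfsg.PSU 3 K (2 ^ n))).ne' ho4.pos.ne', Finsupp.add_apply,
      Nat.Prime.factorization_pow Nat.prime_two, Finsupp.single_eq_same, hfacodd ((ho1.mul ho2).mul ho3),
      hfacodd ho1, hfacodd ho4] at h4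
    omega
  rw [Nat.card_congr e.toEquiv, hPSU] at hL2
  have hnm : n = m := by omega
  subst hnm
  rw [← hm] at hK e
  obtain ⟨eF⟩ := CfsgLib.SUShort.psu_congr (FiniteField.ringEquivOfCardEq (hK.trans hF.symm)) 3 q
  refine identify hF hq hodd (e.trans eF) hcard hcent (fun x' i hx1 hx2 hi1 hi2 => ?_)
    (fun x' i g hx1 hx2 hi hix hgx => inv_comm hD ⟨hx1, hx2⟩ hi (mem_C.mpr hix) (mem_C.mpr hgx))
  obtain ⟨l, hl, he⟩ := hconj x' ⟨hx1, hx2⟩
  obtain ⟨l', hl', he'⟩ := hconj i ⟨hi1, hi2⟩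
  exact ⟨l' * l⁻¹, mul_mem hl' (inv_mem hl), by rw [← he, ← he']; group⟩

end CfsgLib.Bender.PGU3
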